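import Groth.Agent.EtAcyc.K153.TreeLoc
import Groth.Agent.Sga4h.GeoLocal
import Groth.Agent.Dual.H375.SmoothDim
import Groth.Agent.Models.SmoothCase

/-!
# Strong certificates near the points of the marked divisor of a semistable curve
-/

set_option autoImplicit false
universe u

open CategoryTheory CategoryTheory.Limits AlgebraicGeometry

namespace K685.LocSec

open K153.TreeDef K153.STreeBasic K153.LocDef K153.LocNode K556.CertDef K556.SncAlg K556.SncPoly

/-- The case of a smooth relative curve with an étale divisor. -/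
theorem locAt_smooth {R : Type u} [CommRing R] {ι : Type} [Finite ι] {z : ι → R} (h : SNC R z) {C Q E : Scheme.{u}}
    (π : C ⟶ Spec (CommRingCat.of R)) [QuasiSeparated π] {Z : Set C} (j : Q ⟶ C) [Etale j]
    (hs : SmoothOfRelativeDimension 1 (j ≫ π)) (i : E ⟶ Q) [IsClosedImmersion i] (het : Etale (i ≫ j ≫ π))
    (hZ : ∀ q : Q, j q ∈ Z → q ∈ Set.range i) (e : E) : LocAt z π Z (j (i e)) := by
  obtain ⟨V, hV, U, hU, hUV, t, heU, hg, hker⟩ :=
    Groth.Agent.Sga4h.GeoLocal.exists_etale_coordinate (j ≫ π) i e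
  refine ⟨Spec Γ(Q, U), hU.fromSpec ≫ j, inferInstance, quasiCompact_of_affine π _, ?_, fun V₀ hV₀ => ?_⟩
  · have h1 : i e ∈ Set.range hU.fromSpec := by
      rw [hU.range_fromSpec]
      exact heU
    obtain ⟨y, hy⟩ := h1
    exact ⟨y, by rw [Scheme.Hom.comp_apply, hy]⟩
  obtain ⟨φ, hφ⟩ := Spec.map_surjective hV.fromSpec
  have hB : SNC Γ(Spec (CommRingCat.of R), V) (fun k => φ.hom (z k)) := by
    have h1 : Smooth (Spec.map φ) := by
      rw [hφ]
      infer_instance
    have h2 : φ.hom.Smooth := HasRingHomProperty.Spec_iff.mp h1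
    algebraize [φ.hom]
    exact SNC.smooth h _
  have hA : SNC Γ(Q, U) (fun o : Option ι => Polynomial.eval₂RingHom ((j ≫ π).appLE V U hUV).hom t
      (o.elim (Polynomial.X - Polynomial.C 0) (fun k => Polynomial.C (φ.hom (z k))))) := by
    algebraize [Polynomial.eval₂RingHom ((j ≫ π).appLE V U hUV).hom t]
    exact SNC.smooth (SNC.polynomial hB 0) Γ(Q, U)
  refine STree.leaf Γ(Q, U) _ hA V₀ fun p hp => hV₀ p ?_ ?_
  · intro k hk
    refine hp (some k) ?_
    have h2 : π ((hU.fromSpec ≫ j) p) = Spec.map (φ ≫ (j ≫ π).appLE V U hUV) p := by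
      rw [Spec.map_comp, hφ, IsAffineOpen.SpecMap_appLE_fromSpec (j ≫ π) hV hU hUV]
      simp
    rw [h2] at hk
    change Polynomial.eval₂RingHom ((j ≫ π).appLE V U hUV).hom t (Polynomial.C (φ.hom (z k))) ∈ p.asIdeal
    rw [Polynomial.coe_eval₂RingHom, Polynomial.eval₂_C]
    exact hk
  · intro hmem
    rw [Scheme.Hom.comp_apply] at hmem
    obtain ⟨e', he'⟩ := hZ _ hmem
    refine hp none ?_
    change Polynomial.eval₂RingHom ((j ≫ π).appLE V U hUV).hom t (Polynomial.X - Polynomial.C 0) ∈ p.asIdeal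
    rw [Polynomial.C_0, sub_zero, Polynomial.coe_eval₂RingHom, Polynomial.eval₂_X]
    by_contra hpt
    have h3 : p ∈ hU.fromSpec ⁻¹ᵁ Q.basicOpen t := by
      rw [hU.fromSpec_preimage_basicOpen]
      exact hpt
    have h4 : i e' ∈ Q.basicOpen t := by
      rw [he']
      exact h3
    have h5 : e' ∈ i ⁻¹ᵁ Q.basicOpen t := h4
    have h6 : (i.app U).hom t = 0 := by
      rw [← RingHom.mem_ker, hker]
      exact Ideal.mem_span_singleton_self t
    rw [Scheme.preimage_basicOpen] at h5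
    erw [h6] at h5
    rw [Scheme.basicOpen_zero] at h5
    exact h5

/-- A point at which a morphism of relative dimension one is smooth. -/
theorem exists_nhd {C S : Scheme.{u}} (π : C ⟶ S) [LocallyOfFinitePresentation π] (hdim : Cyc.HasRelDim π 1) (x : C)
    (hx : x ∉ DualGr.nonsmoothPts π) :
    ∃ (Q : Scheme.{u}) (j : Q ⟶ C), IsOpenImmersion j ∧ x ∈ Set.range j ∧ SmoothOfRelativeDimension 1 (j ≫ π) := by
  have hx' : x ∈ π.smoothLocus := by
    rw [Scheme.Hom.mem_smoothLocus]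
    exact not_not.1 hx
  obtain ⟨W, j, hj, w, n, rfl, hn⟩ := Groth.Agent.Dual.H375.SmoothDim.exists_relDim_of_mem π x hx'
  obtain rfl : n = 1 := by
    let y : (j ≫ π).fiber (π (j w)) := ((j ≫ π).fiberHomeo (π (j w))).symm ⟨w, rfl⟩
    refine Groth.Agent.Models.SmoothCase.relDim_eq_one π j n hn (π (j w)) (fun Z hZ => ?_) y
    exact_mod_cast hdim (π (j w)) Z hZ
  exact ⟨W, j, hj, ⟨w, rfl⟩, hn⟩

theorem locAt_section {R : Type u} [CommRing R] {ι : Type} [Finite ι] {z : ι → R} (h : SNC R z) {C D : Scheme.{u}}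
    (π : C ⟶ Spec (CommRingCat.of R)) (i : D ⟶ C) (hss : SSMod.IsSemistable π i) (x : C) (hx : x ∈ Set.range i) :
    LocAt z π (Set.range i) x := by
  have h1 : LocallyOfFinitePresentation π := hss.1.2.1
  have h3 : QuasiSeparated π := hss.1.2.2.2.1
  have h4 : IsClosedImmersion i := hss.1.2.2.2.2.2.1
  have h5 : Etale (i ≫ π) := hss.2.2.1
  obtain ⟨Q, j, hj, hxj, hs⟩ := exists_nhd π hss.1.2.2.2.2.1 x (Set.disjoint_left.1 hss.2.2.2 hx)
  obtain ⟨q, rfl⟩ := hxj
  obtain ⟨d, hd⟩ := hx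
  obtain ⟨e, -, he⟩ := Scheme.Pullback.exists_preimage_pullback (f := i) (g := j) d q hd
  have h6 : Etale (pullback.snd i j ≫ j ≫ π) := by
    rw [← pullback.condition_assoc]
    infer_instance
  rw [← he]
  refine locAt_smooth h π j hs (pullback.snd i j) h6 (fun q hq => ?_) e
  obtain ⟨d, hd⟩ := hq
  obtain ⟨e, -, he⟩ := Scheme.Pullback.exists_preimage_pullback (f := i) (g := j) d q hd
  exact ⟨e, he⟩

/-- Node LOC-SEC. -/
theorem sec : K153.TreeLoc.SEC.{u} := fun h _ _ π i hss x hx => locAt_section h π i hss x hx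

/-- Node LOC. -/
theorem loc : K153.TreeStrong.LOC.{u} := K153.TreeLoc.loc_of_sec sec

end K685.LocSec
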